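import Groth.Agent.H58PI.Basic
import Groth.Agent.H46.GRAtOpen
import Groth.Agent.H46.Dvr
import Groth.Agent.H46.FiberStalk
import Groth.Agent.H46.UnivOpenTrdeg

/-!
# Geometric pointwise integrality of fibres of flat morphisms passes to generisations
-/

universe u

open CategoryTheory AlgebraicGeometry Limits TensorProduct
open Groth.Agent.H52.FBase Groth.Agent.H46

namespace Groth.Agent.H58PI

set_option linter.style.haveILetI false

/-- A Noetherian local ring which is a domain modulo a regular element of the maximal ideal is a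
domain. -/
theorem isDomain_of_quotient {O : Type u} [CommRing O] [IsLocalRing O] [IsNoetherianRing O] (π : O)
    (hπm : π ∈ IsLocalRing.maximalIdeal O) (hreg : IsSMulRegular O π)
    (hp : (Ideal.span {π}).IsPrime) : IsDomain O := by
  obtain ⟨q, hq, hqP⟩ := Ideal.exists_minimalPrimes_le (I := (⊥ : Ideal O)) (J := Ideal.span {π}) bot_le
  haveI := hq.1.1
  have hnd : π ∈ nonZeroDivisors O := mem_nonZeroDivisors_iff_right.2 fun z hz =>
    hreg (show π • z = π • 0 by rw [smul_zero, smul_eq_mul, mul_comm]; exact hz)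
  have hπq : π ∉ q := fun h => Ideal.disjoint_nonZeroDivisors_of_mem_minimalPrimes hq |>.le_bot ⟨h, hnd⟩
  have hle : q ≤ Ideal.span {π} • q := by
    intro a ha
    obtain ⟨b, hb⟩ := Ideal.mem_span_singleton'.1 (hqP ha)
    have hbq : b ∈ q := ((Ideal.IsPrime.mem_or_mem inferInstance (hb.symm ▸ ha)).resolve_right hπq)
    rw [← hb, mul_comm]
    exact Submodule.smul_mem_smul (Ideal.mem_span_singleton_self π) hbq
  have hbot : q = ⊥ := Submodule.eq_bot_of_le_smul_of_le_jacobson_bot _ q (IsNoetherian.noetherian q) hle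
    (by
      rw [IsLocalRing.jacobson_eq_maximalIdeal _ bot_ne_top]
      exact (Ideal.span_singleton_le_iff_mem _).2 hπm)
  subst hbot
  exact IsDomain.of_bot_isPrime O

variable {X Y : Scheme.{u}}

/-- Over a discrete valuation ring. -/
theorem isDomain_stalk_of_dvr (V : Type u) [CommRing V] [IsDomain V] [IsDiscreteValuationRing V]
    (f : X ⟶ Spec (CommRingCat.of V)) [LocallyOfFiniteType f] [Flat f] (p : X)
    (hp : f p = IsLocalRing.closedPoint V) (h : PIAt f p) : IsDomain (X.presheaf.stalk p) := by
  haveI := LocallyOfFiniteType.isLocallyNoetherian f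
  obtain ⟨π, hπ⟩ := IsDiscreteValuationRing.exists_irreducible V
  let pt : ↥(Spec (CommRingCat.of V)) := IsLocalRing.closedPoint V
  obtain ⟨a, rfl⟩ : p ∈ Set.range (f.fiberι pt) := by
    rw [Scheme.Hom.range_fiberι]; exact hp
  set x := f.fiberι pt a with hx
  let pr : PrimeSpectrum V := f x
  let B := (Spec (CommRingCat.of V)).presheaf.stalk (f x)
  letI : Algebra V B := StructureSheaf.stalkAlgebra _ _
  haveI : IsLocalization.AtPrime B (pr.asIdeal) :=
    StructureSheaf.IsLocalization.to_stalk _ _
  have hm : IsLocalRing.maximalIdeal B = Ideal.span {algebraMap V B π} := by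
    rw [← IsLocalization.AtPrime.map_eq_maximalIdeal (pr.asIdeal) B,
      show pr.asIdeal = IsLocalRing.maximalIdeal V from congrArg _ hp,
      hπ.maximalIdeal_eq, Ideal.map_span, Set.image_singleton]
  let σ := (f.stalkMap x).hom
  letI : Algebra B (X.presheaf.stalk x) := σ.toAlgebra
  haveI : Module.Flat B (X.presheaf.stalk x) := Flat.stalkMap f x
  haveI : IsDomain B := IsLocalization.isDomain_of_atPrime B pr.asIdeal
  have hker := FiberStalk.ker_stalkMap_fiberι f pt a
  rw [hm, Ideal.map_span, Set.image_singleton] at hker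
  haveI := DomainStalk.isDomain_of_isGeomPtIntegralAt (k := (Spec (CommRingCat.of V)).residueField _)
    ((piAt_iff_fiber f _ a).1 h)
  refine isDomain_of_quotient (σ (algebraMap V B π)) ?_ ?_ (hker ▸ RingHom.ker_isPrime _)
  · exact map_nonunit σ _ (hm.symm ▸ Ideal.mem_span_singleton_self _)
  · have hne : algebraMap V B π ≠ 0 :=
      (map_ne_zero_iff _ (IsLocalization.injective B
        (pr.asIdeal).primeCompl_le_nonZeroDivisors)).2 hπ.ne_zero
    have h' := (IsSMulRegular.of_ne_zero (R := B) (M := B) hne).of_flat (S := X.presheaf.stalk x)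
    exact h'

/-- Generisations within the fibre over a point whose local ring is a field. -/
theorem isDomain_stalk_of_specializes [IsLocallyNoetherian Y] (f : X ⟶ Y) [LocallyOfFiniteType f]
    [Flat f] {x x' : X} (hs : x' ⤳ x) (h : PIAt f x)
    (hY : IsField (Y.presheaf.stalk (f x'))) : IsDomain (X.presheaf.stalk x') := by
  haveI := LocallyOfFiniteType.isLocallyNoetherian f
  obtain ⟨w, hw⟩ : x' ∈ Set.range (X.fromSpecStalk x) := by
    rw [Scheme.range_fromSpecStalk]; exact hs
  let P : Ideal (X.presheaf.stalk x) := (w : PrimeSpectrum (X.presheaf.stalk x)).asIdeal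
  haveI hP : P.IsPrime := (w : PrimeSpectrum (X.presheaf.stalk x)).isPrime
  haveI : IsDomain (X.presheaf.stalk x ⧸ P) := Ideal.Quotient.isDomain P
  let B := X.presheaf.stalk x ⧸ P
  haveI : IsLocalRing B := IsLocalRing.of_surjective' _ Ideal.Quotient.mk_surjective
  haveI : IsLocalHom (Ideal.Quotient.mk P) := IsLocalHom.of_surjective _ Ideal.Quotient.mk_surjective
  let F : Type u := FractionRing B
  let ψ₀ : X.presheaf.stalk x →+* F := (algebraMap B F).comp (Ideal.Quotient.mk P)
  let m : Spec (CommRingCat.of F) ⟶ X := Spec.map (CommRingCat.ofHom ψ₀) ≫ X.fromSpecStalk x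
  have hψ₀ : Spec.map (CommRingCat.ofHom ψ₀) ≫ X.fromSpecStalk x = m := rfl
  have hm : m (IsLocalRing.closedPoint F) = x' := by
    rw [← hw]
    show X.fromSpecStalk x (PrimeSpectrum.comap ψ₀ (IsLocalRing.closedPoint F)) = _
    congr 1
    apply PrimeSpectrum.ext
    show (IsLocalRing.maximalIdeal F).comap ψ₀ = P
    rw [IsLocalRing.maximalIdeal_eq_bot, ← RingHom.ker_eq_comap_bot,
      RingHom.ker_comp_of_injective _ (IsFractionRing.injective B F), Ideal.mk_ker]
  let g := m ≫ f
  haveI : Flat g := by
    obtain ⟨ρ, hρ⟩ := UnivOpenTrdeg.exists_residue_factor g (f x')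
      (by show f (m (IsLocalRing.closedPoint F)) = f x'; rw [hm])
    haveI : Flat (Spec.map ρ) := flat_specMap_field ρ.hom
    have hbij : Function.Bijective (Y.residue (f x')).hom := by
      refine ⟨?_, Y.residue_surjective (f x')⟩
      letI := hY.toField
      exact (Y.residue (f x')).hom.injective
    haveI : IsIso (Y.residue (f x')) := (ConcreteCategory.isIso_iff_bijective _).2 hbij
    haveI := StalkBC.flat_fromSpecStalk (f x') (X := Y)
    rw [← hρ, Scheme.fromSpecResidueField]
    infer_instance
  let z : Spec (CommRingCat.of F) ⟶ pullback f g := pullback.lift m (𝟙 _) (Category.id_comp _).symm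
  let z₀ := z (IsLocalRing.closedPoint F)
  have hz₀ : pullback.fst f g z₀ = x' := by
    show (z ≫ pullback.fst f g) (IsLocalRing.closedPoint F) = x'
    rw [pullback.lift_fst]
    exact hm
  suffices hd : IsDomain ((pullback f g).presheaf.stalk z₀) by
    rw [← hz₀]
    exact isDomain_stalk_of_flat _ _ hd
  by_cases hxx : x' = x
  · subst hxx
    exact h F g z₀ hz₀
  have hnf : ¬ IsField B := by
    intro hB
    apply hxx
    have hPm : P = IsLocalRing.maximalIdeal (X.presheaf.stalk x) :=
      IsLocalRing.eq_maximalIdeal (Ideal.Quotient.maximal_of_isField _ hB)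
    rw [← hw, show w = IsLocalRing.closedPoint (X.presheaf.stalk x) from PrimeSpectrum.ext hPm]
    exact Scheme.fromSpecStalk_closedPoint
  obtain ⟨V, hV, hBV, hBm⟩ := Dvr.exists_dvr_dominating (B := B) (L := F) hnf
  haveI := hV
  let ψ : X.presheaf.stalk x →+* V :=
    ((algebraMap B F).comp (Ideal.Quotient.mk P)).codRestrict V.toSubring fun r => hBV _
  haveI : IsLocalHom ψ := ⟨fun r hr => by
    by_contra hn
    have h1 := hBm (Ideal.Quotient.mk _ r) (map_nonunit (Ideal.Quotient.mk P) r hn)
    exact ((ValuationSubring.valuation_lt_one_iff V (ψ r)).2 h1) hr⟩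
  let t : Spec (CommRingCat.of V) ⟶ X := Spec.map (CommRingCat.ofHom ψ) ≫ X.fromSpecStalk x
  let j : Spec (CommRingCat.of F) ⟶ Spec (CommRingCat.of V) :=
    Spec.map (CommRingCat.ofHom (algebraMap V F))
  have hjt : j ≫ t = m := by
    rw [← hψ₀, ← Category.assoc, ← Spec.map_comp]
    rfl
  let fV : pullback f (t ≫ f) ⟶ Spec (CommRingCat.of V) := pullback.snd _ _
  haveI : LocallyOfFiniteType fV := inferInstanceAs (LocallyOfFiniteType (pullback.snd f (t ≫ f)))
  let s : Spec (CommRingCat.of V) ⟶ pullback f (t ≫ f) :=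
    pullback.lift t (𝟙 _) (Category.id_comp _).symm
  let p₀ := s (IsLocalRing.closedPoint V)
  have hp₀a : pullback.fst f (t ≫ f) p₀ = x := by
    show (s ≫ pullback.fst f (t ≫ f)) (IsLocalRing.closedPoint V) = x
    rw [pullback.lift_fst]
    show X.fromSpecStalk x (PrimeSpectrum.comap ψ (IsLocalRing.closedPoint V)) = x
    rw [IsLocalRing.comap_closedPoint]
    exact Scheme.fromSpecStalk_closedPoint
  have hd₀ := isDomain_stalk_of_dvr V fV p₀
    (by show (s ≫ fV) (IsLocalRing.closedPoint V) = _; rw [pullback.lift_snd]; rfl)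
    (baseChange (IsPullback.of_hasPullback f (t ≫ f)) p₀ (by rw [hp₀a]; exact h))
  haveI : IsFractionRing V F := inferInstance
  haveI : IsPreimmersion j := IsPreimmersion.of_isLocalization (nonZeroDivisors V)
  haveI : Flat j := (HasRingHomProperty.Spec_iff (P := @Flat)).mpr
    (RingHom.flat_algebraMap_iff.2 (IsLocalization.flat F (nonZeroDivisors V)))
  let l : pullback f g ⟶ pullback f (t ≫ f) :=
    pullback.lift (pullback.fst _ _) (pullback.snd _ _ ≫ j)
      (by rw [Category.assoc, pullback.condition, show g = j ≫ t ≫ f by rw [← Category.assoc, hjt]])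
  have sql : IsPullback l (pullback.snd f g) fV j := by
    refine IsPullback.of_right ?_ (pullback.lift_snd _ _ _) (IsPullback.of_hasPullback f (t ≫ f))
    rw [pullback.lift_fst, ← Category.assoc, hjt]
    exact IsPullback.of_hasPullback f g
  haveI : Flat l := MorphismProperty.of_isPullback sql.flip inferInstance
  haveI : IsPreimmersion l := MorphismProperty.of_isPullback sql.flip inferInstance
  have hlz : z ≫ l = j ≫ s := by
    apply pullback.hom_ext
    · rw [Category.assoc, pullback.lift_fst, pullback.lift_fst, Category.assoc, pullback.lift_fst, hjt]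
    · rw [Category.assoc, pullback.lift_snd, pullback.lift_snd_assoc, Category.assoc, pullback.lift_snd,
        Category.comp_id, Category.id_comp]
  have hsp : l z₀ ⤳ p₀ := by
    show (z ≫ l) (IsLocalRing.closedPoint F) ⤳ _
    rw [hlz]
    show s (j (IsLocalRing.closedPoint F)) ⤳ s (IsLocalRing.closedPoint V)
    exact (IsLocalRing.specializes_closedPoint _).map s.continuous
  haveI := isDomain_stalk_generize hsp hd₀
  let e := RingEquiv.ofBijective (l.stalkMap z₀).hom (StalkBC.bijective_stalkMap l z₀)
  exact e.symm.injective.isDomain e.symm.toRingHom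

set_option synthInstance.maxHeartbeats 100000 in
/-- Test on finite extensions of the base field. -/
theorem isGeomPtIntegralAt_of_finite {k : Type u} [Field k] {F : Scheme.{u}}
    (g : F ⟶ Spec (CommRingCat.of k)) (a : F)
    (h : ∀ (K : Type u) [Field K] [Algebra k K] [Module.Finite k K]
      (q : ↥(_root_.FBase.bc g K)), (_root_.FBase.bcπ g K) q = a →
        IsDomain ((_root_.FBase.bc g K).presheaf.stalk q)) :
    _root_.FBase.IsGeomPtIntegralAt g a := by
  classical
  let kb := AlgebraicClosure k
  haveI : Surjective (Spec.map (CommRingCat.ofHom (algebraMap k kb))) :=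
    ⟨Function.surjective_to_subsingleton _⟩
  haveI : Surjective (_root_.FBase.bcπ g kb) := inferInstanceAs (Surjective (pullback.fst g _))
  obtain ⟨x', hx'⟩ := (_root_.FBase.bcπ g kb).surjective a
  suffices hd : IsDomain ((_root_.FBase.bc g kb).presheaf.stalk x') by
    rw [← hx', GeomPtSch.isGeomPtIntegralAt_bc_iff, GeomPt.isGeomPtIntegralAt_iff_isDomain]
    exact hd
  obtain ⟨q, rfl⟩ := StalkBC.exists_j_eq g a kb x' (specializes_of_eq hx')
  let Q : Ideal (StalkBC.Ox g a ⊗[k] kb) := (q : PrimeSpectrum (StalkBC.Ox g a ⊗[k] kb)).asIdeal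
  have hQ := (StalkBC.j_π_eq_iff g a kb q).mp hx'
  suffices hd : IsDomain (Localization.AtPrime Q) from
    (StalkBC.stalkEquiv g a kb q).injective.isDomain (StalkBC.stalkEquiv g a kb q).toRingHom
  haveI : NoZeroDivisors (Localization.AtPrime Q) := ⟨fun {z w} hzw => by
    obtain ⟨⟨c, d⟩, rfl⟩ := IsLocalization.mk'_surjective Q.primeCompl z
    obtain ⟨⟨c', d'⟩, rfl⟩ := IsLocalization.mk'_surjective Q.primeCompl w
    rw [← IsLocalization.mk'_mul, IsLocalization.mk'_eq_zero_iff] at hzw
    obtain ⟨⟨v, hv⟩, hvc⟩ := hzw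
    obtain ⟨D₁, h1, hD₁⟩ := exists_fg_and_mem_baseChange (A := StalkBC.Ox g a) (B := kb) c
    obtain ⟨D₂, h2, hD₂⟩ := exists_fg_and_mem_baseChange (A := StalkBC.Ox g a) (B := kb) c'
    obtain ⟨D₃, h3, hD₃⟩ := exists_fg_and_mem_baseChange (A := StalkBC.Ox g a) (B := kb) v
    let D : Subalgebra k kb := D₁ ⊔ D₂ ⊔ D₃
    have hD : D.FG := (h1.sup h2).sup h3
    haveI : Algebra.FiniteType k D := (Subalgebra.fg_iff_finiteType D).1 hD
    haveI : Algebra.IsIntegral k D := Algebra.IsIntegral.of_injective D.val Subtype.val_injective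
    haveI : Module.Finite k D := Algebra.IsIntegral.finite
    letI : Field D := (isField_of_isIntegral_of_isField' (Field.toIsField k)).toField
    let μ : StalkBC.Ox g a ⊗[k] D →ₐ[StalkBC.Ox g a] StalkBC.Ox g a ⊗[k] kb :=
      Algebra.TensorProduct.map (AlgHom.id _ _) D.val
    have hμ : Function.Injective μ :=
      Module.Flat.lTensor_preserves_injective_linearMap D.val.toLinearMap Subtype.val_injective
    have hin : ∀ (D' : Subalgebra k kb), D' ≤ D → ∀ e ∈ D'.baseChange (StalkBC.Ox g a),
        ∃ e', μ e' = e := by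
      intro D' hle e he
      obtain ⟨e₀, rfl⟩ := he
      refine ⟨Algebra.TensorProduct.map (AlgHom.id (StalkBC.Ox g a) (StalkBC.Ox g a)) (Subalgebra.inclusion hle) e₀, ?_⟩
      induction e₀ using TensorProduct.induction_on with
      | zero => simp
      | tmul a b => rfl
      | add a b ha hb => simp only [map_add, ha, hb]
    obtain ⟨c₀, rfl⟩ := hin D₁ (le_sup_left.trans le_sup_left) c hD₁
    obtain ⟨c₀', rfl⟩ := hin D₂ (le_sup_right.trans le_sup_left) c' hD₂
    obtain ⟨v₀, rfl⟩ := hin D₃ le_sup_right v hD₃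
    let QD : Ideal (StalkBC.Ox g a ⊗[k] D) := Q.comap μ.toRingHom
    let qD : Spec (CommRingCat.of (StalkBC.Ox g a ⊗[k] D)) := (⟨QD, inferInstance⟩ : PrimeSpectrum _)
    have hqD : (_root_.FBase.bcπ g D) (StalkBC.j g a D qD) = a :=
      (StalkBC.j_π_eq_iff g a D qD).mpr (by
        rw [← hQ]
        show (Q.comap μ.toRingHom).comap (algebraMap _ _) = Q.comap (algebraMap _ _)
        rw [Ideal.comap_comap]
        exact congrArg (fun φ => Ideal.comap φ Q) μ.comp_algebraMap)
    haveI := h D (StalkBC.j g a D qD) hqD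
    haveI : IsDomain (Localization.AtPrime QD) :=
      (StalkBC.stalkEquiv g a D qD).symm.injective.isDomain (StalkBC.stalkEquiv g a D qD).symm.toRingHom
    have h0 : v₀ * (c₀ * c₀') = 0 := hμ (by rw [map_mul, map_mul, hvc, map_zero])
    let φD : StalkBC.Ox g a ⊗[k] D →+* Localization.AtPrime QD := algebraMap _ _
    have hz : φD c₀ * φD c₀' = 0 := by
      rw [← φD.map_mul]
      refine (IsLocalization.map_eq_zero_iff QD.primeCompl _ _).2 ?_
      exact ⟨⟨v₀, hv⟩, h0⟩
    simp only [IsLocalization.mk'_eq_zero_iff]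
    rcases mul_eq_zero.1 hz with hc | hc <;>
      obtain ⟨⟨t, ht⟩, htc⟩ := (IsLocalization.map_eq_zero_iff QD.primeCompl _ _).1 hc
    · exact Or.inl ⟨⟨μ t, ht⟩, by rw [← map_mul, htc, map_zero]⟩
    · exact Or.inr ⟨⟨μ t, ht⟩, by rw [← map_mul, htc, map_zero]⟩⟩
  exact NoZeroDivisors.to_isDomain _

/-- Stability under generisation. -/
theorem piAt_of_specializes [IsLocallyNoetherian Y] (f : X ⟶ Y) [LocallyOfFiniteType f] [Flat f]
    {x x' : X} (hs : x' ⤳ x) (h : PIAt f x) : PIAt f x' := by
  obtain ⟨V, hV, hyV, -⟩ := exists_isAffineOpen_mem_and_subset (X := Y) (x := f x) (U := ⊤) trivial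
  have hy'V : f x' ∈ V := (hs.map f.continuous).mem_open V.2 hyV
  haveI := hV.isOpenImmersion_fromSpec
  haveI : IsNoetherianRing Γ(Y, V) := IsLocallyNoetherian.component_noetherian ⟨V, hV⟩
  let y₀ : PrimeSpectrum Γ(Y, V) := hV.primeIdealOf ⟨f x', hy'V⟩
  rw [← f.fiberι_asFiber x']
  refine (piAt_iff_fiber f (f x') (f.asFiber x')).2 ?_
  refine isGeomPtIntegralAt_of_finite (k := Y.residueField (f x')) _ _ fun K _ _ _ q hq => ?_
  let s : Spec (CommRingCat.of K) ⟶ Y :=
    Spec.map (CommRingCat.ofHom (algebraMap (Y.residueField (f x')) K)) ≫ Y.fromSpecResidueField (f x')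
  -- the model of `K`
  let ρ : Γ(Y, V) →+* Y.residueField (f x') :=
    (Y.presheaf.germ V (f x') hy'V ≫ Y.residue (f x')).hom
  letI : Algebra Γ(Y, V) (Y.residueField (f x')) := ρ.toAlgebra
  letI : Algebra Γ(Y, V) K :=
    ((algebraMap (Y.residueField (f x')) K).comp ρ).toAlgebra
  have hρ : Spec.map (CommRingCat.ofHom ρ) ≫ hV.fromSpec = Y.fromSpecResidueField (f x') := by
    show Spec.map (Y.presheaf.germ V (f x') hy'V ≫ Y.residue (f x')) ≫ hV.fromSpec = _
    rw [Spec.map_comp, Category.assoc, ← IsAffineOpen.fromSpecStalk,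
      hV.fromSpecStalk_eq_fromSpecStalk]
    rfl
  obtain ⟨A', hA'fin, hA'frac⟩ : ∃ A' : Subalgebra Γ(Y, V) K,
      Module.Finite Γ(Y, V) A' ∧ IsFractionRing A' K := by
    have hker : RingHom.ker (algebraMap Γ(Y, V) K) = y₀.asIdeal := by
      ext z
      rw [RingHom.mem_ker, RingHom.algebraMap_toAlgebra, RingHom.comp_apply,
        map_eq_zero_iff _ (RingHom.injective _)]
      show (Y.residue (f x')).hom ((Y.presheaf.germ V (f x') hy'V).hom z) = 0 ↔ _
      letI := Y.presheaf.algebra_section_stalk (⟨f x', hy'V⟩ : V)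
      haveI := hV.isLocalization_stalk ⟨f x', hy'V⟩
      exact Ideal.Quotient.eq_zero_iff_mem.trans
        (IsLocalization.AtPrime.to_map_mem_maximal_iff (Y.presheaf.stalk (f x')) y₀.asIdeal z)
    have hρle : y₀.asIdeal ≤ RingHom.ker ρ := fun z hz => by
      rw [← hker] at hz
      exact (map_eq_zero_iff _ (RingHom.injective (algebraMap (Y.residueField (f x')) K))).1 hz
    have hρu : y₀.asIdeal.primeCompl ≤ (IsUnit.submonoid _).comap ρ := fun z hz => by
      refine isUnit_iff_ne_zero.2 fun h0 => hz ?_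
      rw [← hker]
      show algebraMap (Y.residueField (f x')) K (ρ z) = 0
      rw [h0, map_zero]
    let e : y₀.asIdeal.ResidueField →+* Y.residueField (f x') :=
      Ideal.ResidueField.lift y₀.asIdeal ρ hρle hρu
    have he : Function.Surjective e := by
      intro c
      obtain ⟨r, rfl⟩ := Y.residue_surjective (f x') c
      letI := Y.presheaf.algebra_section_stalk (⟨f x', hy'V⟩ : V)
      haveI := hV.isLocalization_stalk ⟨f x', hy'V⟩
      obtain ⟨⟨n, d⟩, hnd⟩ := IsLocalization.surj y₀.asIdeal.primeCompl r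
      refine ⟨algebraMap _ _ n / algebraMap _ _ d.1, ?_⟩
      rw [map_div₀, Ideal.ResidueField.lift_algebraMap, Ideal.ResidueField.lift_algebraMap, div_eq_iff]
      · show (Y.residue (f x')).hom _ = (Y.residue (f x')).hom r * (Y.residue (f x')).hom _
        rw [← map_mul]
        exact congrArg _ hnd.symm
      · exact (hρu d.2).ne_zero
    letI : Algebra y₀.asIdeal.ResidueField (Y.residueField (f x')) := e.toAlgebra
    letI : Algebra y₀.asIdeal.ResidueField K :=
      ((algebraMap (Y.residueField (f x')) K).comp e).toAlgebra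
    haveI : IsScalarTower y₀.asIdeal.ResidueField (Y.residueField (f x')) K :=
      IsScalarTower.of_algebraMap_eq fun _ => rfl
    haveI : Module.Finite y₀.asIdeal.ResidueField (Y.residueField (f x')) :=
      Module.Finite.of_surjective (Algebra.linearMap _ _) he
    haveI : Module.Finite y₀.asIdeal.ResidueField K :=
      Module.Finite.trans (Y.residueField (f x')) K
    haveI : IsScalarTower Γ(Y, V) y₀.asIdeal.ResidueField K :=
      IsScalarTower.of_algebraMap_eq fun z => by
        show algebraMap (Y.residueField (f x')) K (ρ z) = algebraMap (Y.residueField (f x')) K (e _)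
        rw [Ideal.ResidueField.lift_algebraMap]
    exact GRAtOpen.exists_finite_model K y₀.asIdeal hker
  haveI := hA'fin
  haveI := hA'frac
  haveI : IsNoetherianRing A' := IsNoetherianRing.of_finite Γ(Y, V) A'
  let γ : Spec (CommRingCat.of A') ⟶ Spec Γ(Y, V) :=
    Spec.map (CommRingCat.ofHom (algebraMap Γ(Y, V) A'))
  haveI : IsIntegralHom γ :=
    IsIntegralHom.SpecMap_iff.2 (algebraMap_isIntegral_iff.2 (Algebra.IsIntegral.of_finite _ _))
  let j : Spec (CommRingCat.of K) ⟶ Spec (CommRingCat.of A') :=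
    Spec.map (CommRingCat.ofHom (algebraMap A' K))
  haveI : IsPreimmersion j := IsPreimmersion.of_isLocalization (nonZeroDivisors A')
  haveI : Flat j := (HasRingHomProperty.Spec_iff (P := @Flat)).mpr
    (RingHom.flat_algebraMap_iff.2 (IsLocalization.flat K (nonZeroDivisors A')))
  have hjγ : j ≫ γ ≫ hV.fromSpec = s := by
    show _ = Spec.map _ ≫ _
    rw [← hρ, ← Category.assoc, ← Category.assoc, ← Spec.map_comp, ← Spec.map_comp,
      ← CommRingCat.ofHom_comp]
    rfl
  -- base change to `T = Spec A'`
  let XV := pullback f hV.fromSpec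
  let fV : XV ⟶ Spec Γ(Y, V) := pullback.snd f hV.fromSpec
  let XT := pullback fV γ
  let fT : XT ⟶ Spec (CommRingCat.of A') := pullback.snd fV γ
  let a : XT ⟶ X := pullback.fst fV γ ≫ pullback.fst f hV.fromSpec
  have sqT : IsPullback a fT f (γ ≫ hV.fromSpec) :=
    (IsPullback.of_hasPullback fV γ).paste_horiz (IsPullback.of_hasPullback f hV.fromSpec)
  -- `X_K → X_T`
  have sq₀ : IsPullback (_root_.FBase.bcπ (k := Y.residueField (f x')) (f.fiberToSpecResidueField (f x')) K ≫ f.fiberι (f x'))
      (_root_.FBase.bcStr (k := Y.residueField (f x')) (f.fiberToSpecResidueField (f x')) K) f s :=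
    (IsPullback.of_hasPullback _ _).paste_horiz (IsPullback.of_hasPullback f _)
  let l : _root_.FBase.bc (k := Y.residueField (f x')) (f.fiberToSpecResidueField (f x')) K ⟶ XT :=
    sqT.lift (_root_.FBase.bcπ (k := Y.residueField (f x')) (f.fiberToSpecResidueField (f x')) K ≫ f.fiberι (f x'))
      (_root_.FBase.bcStr (k := Y.residueField (f x')) (f.fiberToSpecResidueField (f x')) K ≫ j)
      (by rw [Category.assoc, Category.assoc, hjγ]; exact sq₀.w)
  have sql : IsPullback l (_root_.FBase.bcStr (k := Y.residueField (f x')) (f.fiberToSpecResidueField (f x')) K) fT j := by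
    refine IsPullback.of_right ?_ (IsPullback.lift_snd _ _ _ _) sqT
    rw [IsPullback.lift_fst, hjγ]
    exact sq₀
  haveI : Flat l := MorphismProperty.of_isPullback sql.flip inferInstance
  haveI : IsPreimmersion l := MorphismProperty.of_isPullback sql.flip inferInstance
  have haq : a (l q) = x' := by
    rw [← Scheme.Hom.comp_apply, IsPullback.lift_fst]
    exact (congrArg (f.fiberι (f x')) hq).trans (f.fiberι_asFiber x')
  -- a point over `x`
  obtain ⟨x₀, hx₀⟩ : x ∈ Set.range (pullback.fst f hV.fromSpec) := by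
    rw [Scheme.Pullback.range_fst, hV.range_fromSpec]; exact hyV
  have hsp : pullback.fst fV γ (l q) ⤳ x₀ := by
    refine (pullback.fst f hV.fromSpec).isEmbedding.isInducing.specializes_iff.1 ?_
    rw [hx₀, ← Scheme.Hom.comp_apply]
    exact (specializes_of_eq haq).trans hs
  obtain ⟨p, hp, hpx⟩ := (pullback.fst fV γ).isClosedMap.specializingMap hsp
  have hap : a p = x := by
    show (pullback.fst fV γ ≫ pullback.fst f hV.fromSpec) p = x
    rw [Scheme.Hom.comp_apply, hpx, hx₀]
  haveI : LocallyOfFiniteType fT := inferInstanceAs (LocallyOfFiniteType (pullback.snd fV γ))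
  haveI : LocallyOfFinitePresentation f := inferInstance
  haveI : IsLocallyNoetherian (Spec (CommRingCat.of A')) := inferInstance
  haveI : Flat fT := inferInstanceAs (Flat (pullback.snd fV γ))
  have hpT : PIAt fT p := baseChange sqT p (by rw [hap]; exact h)
  have hlq : fT (l q) = j (_root_.FBase.bcStr (k := Y.residueField (f x'))
      (f.fiberToSpecResidueField (f x')) K q) := by
    rw [← Scheme.Hom.comp_apply, sql.w, Scheme.Hom.comp_apply]
  have hfield : IsField ((Spec (CommRingCat.of A')).presheaf.stalk (fT (l q))) := by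
    rw [hlq]
    generalize _root_.FBase.bcStr (k := Y.residueField (f x'))
      (f.fiberToSpecResidueField (f x')) K q = pt
    let e := RingEquiv.ofBijective (j.stalkMap pt).hom (StalkBC.bijective_stalkMap j pt)
    refine MulEquiv.isField ?_ e.toMulEquiv
    let pq : PrimeSpectrum K := pt
    letI : Algebra K ((Spec (CommRingCat.of K)).presheaf.stalk pt) := StructureSheaf.stalkAlgebra _ _
    haveI : IsLocalization.AtPrime ((Spec (CommRingCat.of K)).presheaf.stalk pt)
      pq.asIdeal := StructureSheaf.IsLocalization.to_stalk _ _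
    exact MulEquiv.isField (Field.toIsField K) (IsLocalization.atUnits K
      pq.asIdeal.primeCompl (S := (Spec (CommRingCat.of K)).presheaf.stalk pt)
      (fun z hz => isUnit_iff_ne_zero.2 fun h0 => hz (h0 ▸ zero_mem _))).symm.toMulEquiv
  haveI := isDomain_stalk_of_specializes fT hp hpT hfield
  let e := RingEquiv.ofBijective (l.stalkMap q).hom (StalkBC.bijective_stalkMap l q)
  exact e.symm.injective.isDomain e.symm.toRingHom

end Groth.Agent.H58PI

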