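import Groth.Agent.H58PI.Basic
import Groth.Agent.H46.GeomSpread.Fibre
import Groth.Agent.H69.FibreLoci.GR
import Groth.Agent.H56.NearGeneric.GeomReduced

/-!
# Geometrically pointwise integral fibres: counting criterion, behaviour near the generic point
-/

universe u

open CategoryTheory AlgebraicGeometry Limits TopologicalSpace
open Groth.Agent.H52.FBase Groth.Agent.H46
open Groth.Agent.Lib.Cyc

namespace Groth.Agent.H58PI

set_option linter.style.haveILetI false

open GeomSpread in
/-- All local rings are domains iff reduced and the irreducible components do not meet. -/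
theorem forall_isDomain_stalk_iff (W : Scheme.{u}) [NoetherianSpace W] :
    (∀ w, IsDomain (W.presheaf.stalk w)) ↔ IsReduced W ∧ nI W = nC W := by
  let ι := ↥(irreducibleComponents (↑W : Type u))
  haveI : Finite ι := NoetherianSpace.finite_irreducibleComponents.to_subtype
  let T : ι → Set W := Subtype.val
  have hc : ∀ i, IsClosed (T i) := fun i => isClosed_of_mem_irreducibleComponents _ i.2
  have hconn : ∀ i, _root_.IsConnected (T i) := fun i => i.2.1.isConnected
  have hcov : ∀ w, ∃ i, w ∈ T i := fun w =>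
    ⟨⟨_, irreducibleComponent_mem_irreducibleComponents w⟩, mem_irreducibleComponent⟩
  obtain ⟨e⟩ := nonempty_equiv_connectedComponents hc hconn hcov
  constructor
  · intro h
    haveI : ∀ w, _root_.IsReduced (W.presheaf.stalk w) := fun w => by
      haveI := h w; infer_instance
    refine ⟨isReduced_of_isReduced_stalk W, ?_⟩
    have key : ∀ i j, (T i ∩ T j).Nonempty → i = j := by
      rintro i j ⟨z, hzi, hzj⟩
      obtain ⟨ξ, hξ⟩ := QuasiSober.sober i.2.1 (hc i)
      obtain ⟨ξ', hξ'⟩ := QuasiSober.sober j.2.1 (hc j)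
      have := DomainStalk.eq_of_isDomain_stalk (h z) (DomainStalk.isMaxPt_of_mem i.2 hξ)
        (hξ.specializes hzi) (DomainStalk.isMaxPt_of_mem j.2 hξ') (hξ'.specializes hzj)
      subst this
      exact Subtype.ext (hξ.def.symm.trans hξ'.def)
    let q : Quot (fun i j => (T i ∩ T j).Nonempty) ≃ ι :=
      ⟨Quot.lift id key, Quot.mk _, fun a => Quot.inductionOn a fun _ => rfl, fun _ => rfl⟩
    exact (ENat.card_congr (e.trans q)).symm
  · rintro ⟨hred, hcount⟩ w
    refine DomainStalk.isDomain_stalk inferInstance fun ξ ξ' hξ hξ' h1 h2 => ?_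
    let i : ι := ⟨closure {ξ}, FieldDim.closure_mem_irreducibleComponents ξ hξ⟩
    let j : ι := ⟨closure {ξ'}, FieldDim.closure_mem_irreducibleComponents ξ' hξ'⟩
    have hij : Quot.mk (fun i j => (T i ∩ T j).Nonempty) i = Quot.mk _ j :=
      Quot.sound ⟨w, h1.mem_closure, h2.mem_closure⟩
    haveI : Finite (Quot fun i j => (T i ∩ T j).Nonempty) :=
      Finite.of_surjective _ Quot.mk_surjective
    have hcard : Nat.card ι = Nat.card (Quot fun i j => (T i ∩ T j).Nonempty) := by
      have h' : ENat.card ι = ENat.card (Quot fun i j => (T i ∩ T j).Nonempty) :=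
        hcount.trans (ENat.card_congr e)
      rwa [ENat.card_eq_coe_natCard, ENat.card_eq_coe_natCard, Nat.cast_inj] at h'
    have := (Nat.bijective_iff_surjective_and_card (Quot.mk fun i j => (T i ∩ T j).Nonempty)).2
      ⟨Quot.mk_surjective, hcard⟩
    have hc' : closure {ξ} = closure {ξ'} := congrArg Subtype.val (this.1 hij)
    exact ((IsGenericPoint.eq (S := closure {ξ}) rfl hc'.symm))

section Field

variable {k : Type u} [Field k] {X : Scheme.{u}} (f : X ⟶ Spec (CommRingCat.of k))
  [LocallyOfFiniteType f] [QuasiCompact f] (Ω : Type u) [Field Ω] [Algebra k Ω] [IsAlgClosed Ω]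

omit [LocallyOfFiniteType f] [QuasiCompact f] [IsAlgClosed Ω] in
theorem surjective_bcπ : Surjective (_root_.FBase.bcπ f Ω) := by
  haveI : Surjective (Spec.map (CommRingCat.ofHom (algebraMap k Ω))) :=
    ⟨Function.surjective_to_subsingleton _⟩
  exact inferInstanceAs (Surjective (pullback.fst f _))

omit [IsAlgClosed Ω] in
theorem noetherianSpace_bc : NoetherianSpace ↥(_root_.FBase.bc f Ω) := by
  haveI : LocallyOfFiniteType (_root_.FBase.bcStr f Ω) :=
    inferInstanceAs (LocallyOfFiniteType (pullback.snd f _))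
  haveI : QuasiCompact (_root_.FBase.bcStr f Ω) := inferInstanceAs (QuasiCompact (pullback.snd f _))
  haveI : IsLocallyNoetherian (_root_.FBase.bc f Ω) :=
    LocallyOfFiniteType.isLocallyNoetherian (_root_.FBase.bcStr f Ω)
  haveI : CompactSpace ↥(_root_.FBase.bc f Ω) :=
    QuasiCompact.compactSpace_of_compactSpace (_root_.FBase.bcStr f Ω)
  haveI : IsNoetherian (_root_.FBase.bc f Ω) := ⟨⟩
  infer_instance

omit [LocallyOfFiniteType f] [QuasiCompact f] in
theorem geometricallyReduced_iff_isReduced_bc :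
    GeometricallyReduced f ↔ IsReduced (_root_.FBase.bc f Ω) := by
  constructor
  · intro h
    exact GeometricallyReduced.geometrically_isReduced _ _ _ (IsPullback.of_hasPullback _ _)
  · intro h
    refine ⟨?_⟩
    rw [geometrically_iff_of_isClosedUnderIsomorphisms]
    intro K _ σ
    obtain ⟨φ, rfl⟩ := Spec.map_surjective σ
    letI : Algebra k K := φ.hom.toAlgebra
    haveI : ∀ z, _root_.IsReduced ((_root_.FBase.bc f K).presheaf.stalk z) := fun z => by
      obtain ⟨x', hx'⟩ := (surjective_bcπ f Ω).surj (_root_.FBase.bcπ f K z)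
      exact GeomPt.isGeomReducedAt_of_perfect x' hx'
        (inferInstanceAs (_root_.IsReduced ((_root_.FBase.bc f Ω).presheaf.stalk x'))) K z rfl
    exact isReduced_of_isReduced_stalk (_root_.FBase.bc f K)

omit [LocallyOfFiniteType f] [QuasiCompact f] in
theorem forall_iff_isDomain_bc :
    (∀ x : X, _root_.FBase.IsGeomPtIntegralAt f x) ↔
      ∀ z, IsDomain ((_root_.FBase.bc f Ω).presheaf.stalk z) := by
  constructor
  · intro h z
    exact h _ Ω z rfl
  · intro h x
    obtain ⟨x', rfl⟩ := (surjective_bcπ f Ω).surj x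
    rw [GeomPtSch.isGeomPtIntegralAt_bc_iff, GeomPt.isGeomPtIntegralAt_iff_isDomain]
    exact h x'

open GeomSpread in
theorem forall_isGeomPtIntegralAt_iff :
    (∀ x : X, _root_.FBase.IsGeomPtIntegralAt f x) ↔
      GeometricallyReduced f ∧ nI (_root_.FBase.bc f Ω) = nC (_root_.FBase.bc f Ω) := by
  haveI := noetherianSpace_bc f Ω
  rw [forall_iff_isDomain_bc f Ω, geometricallyReduced_iff_isReduced_bc f Ω,
    forall_isDomain_stalk_iff]

end Field

variable {X Y : Scheme.{u}}

open GeomSpread in
theorem forall_piAt_iff_counts (f : X ⟶ Y) [LocallyOfFiniteType f] [QuasiCompact f] (y : Y) :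
    (∀ x, f x = y → PIAt f x) ↔ GeometricallyReduced (f.fiberToSpecResidueField y) ∧
      MoreMor.nGeomIrredComp f y = MoreMor.nGeomConnComp f y := by
  let A : CommRingCat.{u} := Y.residueField y
  let K := SeparableClosure (Y.residueField y)
  let Ω := AlgebraicClosure (Y.residueField y)
  haveI : IsScalarTower A K Ω := inferInstanceAs (IsScalarTower (Y.residueField y) K Ω)
  obtain ⟨h1, h2⟩ := counts_eq_of_sepClosed (A := A) (f.fiberToSpecResidueField y) K Ω
  rw [← forall_fiber_iff, forall_isGeomPtIntegralAt_iff (k := Y.residueField y)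
    (f.fiberToSpecResidueField y) Ω]
  exact and_congr_right fun _ => by
    rw [show nI (_root_.FBase.bc (k := Y.residueField y) (f.fiberToSpecResidueField y) Ω) = _ from h1,
      show nC (_root_.FBase.bc (k := Y.residueField y) (f.fiberToSpecResidueField y) Ω) = _ from h2]
    rfl

/-- Near the generic point. -/
theorem exists_open_forall [IrreducibleSpace Y] (f : X ⟶ Y) [LocallyOfFiniteType f] [QuasiCompact f]
    (η : Y) (hη : IsGenericPoint η Set.univ) (h : ∀ x, f x = η → PIAt f x) :
    ∃ V : Y.Opens, η ∈ V ∧ ∀ x, f x ∈ V → PIAt f x := by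
  obtain ⟨hgr, hc⟩ := (forall_piAt_iff_counts f η).1 h
  obtain ⟨V₁, hV₁, hgr'⟩ := Groth.Agent.H56.NearGeneric.exists_geometricallyReduced (f := f) η hη hgr
  obtain ⟨V₂, hV₂, hc'⟩ := GeomSpread.exists_open_counts f η hη
  have hm : ∀ V : Y.Opens, (V : Set Y).Nonempty → η ∈ V := fun V hV =>
    (hη.mem_open_set_iff V.2).2 (by simpa using hV)
  refine ⟨V₁ ⊓ V₂, ⟨hm _ hV₁, hm _ hV₂⟩, fun x hx => ?_⟩
  refine (forall_piAt_iff_counts f (f x)).2 ⟨?_, ?_⟩ x rfl
  · rw [H69.FibreLoci.GR.geometricallyReduced_fiber_iff]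
    intro x₁ hx₁
    have hx₁V : f x₁ ∈ V₁ := hx₁ ▸ hx.1
    let u' : ↥((f ⁻¹ᵁ V₁) : Scheme.{u}) := ⟨x₁, hx₁V⟩
    have h3 : H46.GRAt.GRAt (f ∣_ V₁) u' := by
      intro K _ s p _
      haveI := hgr'
      haveI : IsReduced (pullback (f ∣_ V₁) s) :=
        GeometricallyReduced.geometrically_isReduced _ _ _ (IsPullback.of_hasPullback _ _)
      infer_instance
    exact H46.GRAt.of_baseChange (isPullback_morphismRestrict f V₁).flip u' h3
  · rw [(hc' _ hx.2).1, (hc' _ hx.2).2, hc]

end Groth.Agent.H58PI
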