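import Groth.Agent.H58PI.Generize
import Groth.Agent.H58PI.Spread
import Groth.Agent.S2530
import Groth.Agent.H46.NoethModel
import Groth.Agent.H69.FibreLoci.Pointwise

/-!
# Openness and constructibility of geometric pointwise integrality of fibres
-/

universe u

open CategoryTheory AlgebraicGeometry Limits
open Groth.Agent.H52.FBase Groth.Agent.H46

namespace Groth.Agent.H58PI

set_option linter.style.haveILetI false

open GRAtOpen (mem_open_of_dense)

variable {X Y : Scheme.{u}}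

/-- Points of `closure {ξ}` near `ξ`. -/
theorem exists_open_piAt [IsLocallyNoetherian Y] (f : X ⟶ Y) [LocallyOfFiniteType f] (ξ : X)
    (h : PIAt f ξ) : ∃ O : Set X, IsOpen O ∧ ξ ∈ O ∧ ∀ x ∈ O, ξ ⤳ x → PIAt f x := by
  obtain ⟨V, hV, hηV, -⟩ := exists_isAffineOpen_mem_and_subset (X := Y) (x := f ξ) (U := ⊤) trivial
  haveI := hV.isOpenImmersion_fromSpec
  haveI : IsNoetherianRing Γ(Y, V) := IsLocallyNoetherian.component_noetherian ⟨V, hV⟩
  let η₀ : PrimeSpectrum Γ(Y, V) := hV.primeIdealOf ⟨f ξ, hηV⟩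
  have hη₀ : hV.fromSpec η₀ = f ξ := hV.fromSpec_primeIdealOf ⟨f ξ, hηV⟩
  let A := Γ(Y, V) ⧸ η₀.asIdeal
  let qm : Γ(Y, V) ⟶ CommRingCat.of A := CommRingCat.ofHom (Ideal.Quotient.mk η₀.asIdeal)
  haveI : IsClosedImmersion (Spec.map qm) :=
    IsClosedImmersion.spec_of_surjective _ Ideal.Quotient.mk_surjective
  let g : Spec (CommRingCat.of A) ⟶ Y := Spec.map qm ≫ hV.fromSpec
  haveI : IsDomain A := Ideal.Quotient.isDomain _
  let ηT : ↥(Spec (CommRingCat.of A)) := (⟨⊥, Ideal.isPrime_bot⟩ : PrimeSpectrum A)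
  haveI : IrreducibleSpace ↥(Spec (CommRingCat.of A)) :=
    inferInstanceAs (IrreducibleSpace (PrimeSpectrum A))
  have hgenT : IsGenericPoint ηT Set.univ :=
    Set.eq_univ_of_forall fun t =>
      ((PrimeSpectrum.le_iff_specializes (⟨⊥, Ideal.isPrime_bot⟩ : PrimeSpectrum A) t).1 bot_le).mem_closure
  have hgη : g ηT = f ξ := by
    refine (congrArg hV.fromSpec (show Spec.map qm ηT = η₀ from PrimeSpectrum.ext ?_)).trans hη₀
    exact (RingHom.ker_eq_comap_bot _).symm.trans Ideal.mk_ker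
  let X' := pullback f g
  let a : X' ⟶ X := pullback.fst f g
  let f' : X' ⟶ Spec (CommRingCat.of A) := pullback.snd f g
  have sq : IsPullback a f' f g := IsPullback.of_hasPullback f g
  obtain ⟨ξ', hξ'a, hξ'f⟩ := Scheme.Pullback.exists_preimage_pullback (f := f) (g := g) ξ ηT hgη.symm
  -- the generic fibre
  haveI : LocallyOfFiniteType f' := inferInstanceAs (LocallyOfFiniteType (pullback.snd f g))
  haveI := QFin.isLocallyNoetherian_fiber f' ηT
  have hE' : PIAt f' ξ' := baseChange sq ξ' (by rw [hξ'a]; exact h)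
  obtain ⟨c, hc⟩ : ξ' ∈ Set.range (f'.fiberι ηT) := (Scheme.Hom.range_fiberι f' ηT).ge hξ'f
  have hlocus : IsOpen {c : ↥(f'.fiber ηT) | _root_.FBase.IsGeomPtIntegralAt
      (k := (Spec (CommRingCat.of A)).residueField ηT) (f'.fiberToSpecResidueField ηT) c} :=
    Groth.Agent.S2530.result _
  obtain ⟨W₀, hW₀, hW₀'⟩ :=
    (f'.fiberι ηT).isEmbedding.isInducing.isOpen_iff.1 hlocus
  have hξW₀ : ξ' ∈ W₀ := by
    rw [← hc]
    refine (Set.ext_iff.1 hW₀' c).2 ?_
    refine (piAt_iff_fiber f' _ c).1 ?_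
    rw [hc]; exact hE'
  obtain ⟨U, hU, hξU, hUW⟩ := exists_isAffineOpen_mem_and_subset (X := X') (x := ξ')
    (U := ⟨W₀, hW₀⟩) hξW₀
  haveI : IsAffine (U : Scheme.{u}) := hU
  let f'' : (U : Scheme.{u}) ⟶ Spec (CommRingCat.of A) := U.ι ≫ f'
  haveI : QuasiCompact f'' := inferInstance
  have hgen : ∀ u : (U : Scheme.{u}), f'' u = ηT → PIAt f'' u := by
    intro u hu
    rw [openImmersion_iff]
    obtain ⟨d, hd⟩ : U.ι u ∈ Set.range (f'.fiberι ηT) := by
      rw [Scheme.Hom.range_fiberι]; exact hu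
    rw [← hd]
    refine (piAt_iff_fiber f' _ d).2 ((Set.ext_iff.1 hW₀' d).1 ?_)
    show f'.fiberι _ d ∈ W₀
    rw [hd]
    exact hUW u.2
  obtain ⟨V', hηV', hpi⟩ := exists_open_forall f'' ηT hgenT hgen
  have hall : ∀ x' : X', x' ∈ U → f' x' ∈ V' → PIAt f (a x') := by
    intro x' hxU hxV
    refine of_baseChange sq x' ?_
    exact (openImmersion_iff f' U.ι ⟨x', hxU⟩).1 (hpi ⟨x', hxU⟩ hxV)
  haveI : IsImmersion g := inferInstance
  haveI : IsImmersion a := inferInstanceAs (IsImmersion (pullback.fst f g))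
  obtain ⟨O, hO, hOa⟩ := a.isEmbedding.isInducing.isOpen_iff.1
    (U.2.inter (V'.2.preimage f'.continuous))
  refine ⟨O ∩ f ⁻¹' (V : Set Y), hO.inter (V.2.preimage f.continuous), ⟨?_, hηV⟩, ?_⟩
  · rw [← hξ'a]
    refine (Set.ext_iff.1 hOa ξ').2 ⟨hξU, ?_⟩
    show f' ξ' ∈ V'
    rw [hξ'f]; exact hηV'
  · rintro x ⟨hxO, hxV⟩ hs
    obtain ⟨t₀, ht₀⟩ : f x ∈ Set.range hV.fromSpec := by rw [hV.range_fromSpec]; exact hxV
    have hηt : η₀ ⤳ t₀ := by
      refine hV.fromSpec.isEmbedding.isInducing.specializes_iff.1 ?_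
      rw [hη₀, ht₀]
      exact hs.map f.continuous
    obtain ⟨t, ht⟩ : t₀ ∈ Set.range (Spec.map qm) := by
      have hcl : IsClosed (Set.range (Spec.map qm)) := (Spec.map qm).isClosedEmbedding.isClosed_range
      refine hηt.mem_closed hcl ⟨ηT, PrimeSpectrum.ext ?_⟩
      exact (RingHom.ker_eq_comap_bot _).symm.trans Ideal.mk_ker
    obtain ⟨x', hx'a, hx't⟩ := Scheme.Pullback.exists_preimage_pullback (f := f) (g := g) x t
      (show f x = g t by rw [← ht₀, ← ht]; rfl)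
    rw [← hx'a]
    have hx'O : x' ∈ a ⁻¹' O := by
      show a x' ∈ O
      rw [show a x' = x from hx'a]; exact hxO
    rw [hOa] at hx'O
    exact hall x' hx'O.1 hx'O.2

theorem isOpen_piAt_of_flat_noetherian [IsLocallyNoetherian Y] (f : X ⟶ Y) [LocallyOfFiniteType f]
    [Flat f] [TopologicalSpace.NoetherianSpace X] : IsOpen {x : X | PIAt f x} :=
  GRAtOpen.isOpen_of_criterion _ (fun _ hx _ hs => piAt_of_specializes f hs hx)
    fun ξ hξ => exists_open_piAt f ξ hξ

/-- EGA IV 12.1.1 (vii). -/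
theorem isOpen_piAt (f : X ⟶ Y) [LocallyOfFinitePresentation f] [Flat f] :
    IsOpen {x : X | PIAt f x} := by
  rw [isOpen_iff_mem_nhds]
  intro x hpi
  obtain ⟨U, V, X₀, Y₀, j, v, f₁, f₀, a, b, _, _, ⟨u, rfl⟩, hfac, sq, hY₀, hX₀, _, _, -, -⟩ :=
    NoethModel.exists_model f x (Flat.stalkMap f x)
  have key : ∀ w, PIAt f (j w) ↔ PIAt f₀ (a w) := fun w => by
    rw [← openImmersion_iff, hfac, iff_of_mono]
    exact baseChange_iff sq w
  haveI := hY₀
  haveI := hX₀
  have ho := j.isOpenEmbedding.isOpenMap _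
    ((isOpen_piAt_of_flat_noetherian f₀).preimage a.continuous)
  refine Filter.mem_of_superset (ho.mem_nhds ⟨u, (key u).1 hpi, rfl⟩) ?_
  rintro _ ⟨w, hw, rfl⟩
  exact (key w).2 hw

theorem good : H69.FibreLoci.Pointwise.Good.{u} (fun _ _ f x => PIAt f x) where
  baseChange := fun _ _ _ _ _ _ _ _ _ sq x' => baseChange_iff sq x'
  openImmersion := fun _ _ _ j _ f _ x => openImmersion_iff f j x
  isOpen := fun _ _ f _ _ => isOpen_piAt f

theorem isLocallyConstructible_piAt (f : X ⟶ Y) [LocallyOfFinitePresentation f] :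
    Topology.IsLocallyConstructible {x : X | PIAt f x} :=
  good.isLocallyConstructible f

theorem isLocallyConstructible_forall (f : X ⟶ Y) [LocallyOfFinitePresentation f] [QuasiCompact f] :
    Topology.IsLocallyConstructible {y : Y | ∀ x, f x = y → PIAt f x} :=
  good.isLocallyConstructible_forall f

end Groth.Agent.H58PI
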